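import Groth.Prelude.Def_W4c4chowquasisplitNorm
import Groth.Agent.BddFibLib.Points
import Mathlib

/-! # The norm subgroup of CH₀ of the spectrum of a field -/

set_option autoImplicit false

universe u

open AlgebraicGeometry CategoryTheory

noncomputable section

namespace Groth.Agent.PtNorm

variable (k : Type u) [Field k]

abbrev pt : Scheme.{u} := Spec (CommRingCat.of k)

lemma eq_pt (x y : pt k) : x = y := @Subsingleton.elim (PrimeSpectrum k) inferInstance x y

def thePt : pt k := (default : PrimeSpectrum k)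

def constCycle (m : ℤ) : AlgebraicCycle (pt k) ℤ where
  toFun _ := m
  supportWithinDomain' := by simp
  supportLocallyFiniteWithinDomain' _ _ :=
    haveI : Subsingleton (pt k) := ⟨eq_pt k⟩
    ⟨Set.univ, Filter.univ_mem, Set.toFinite _⟩

lemma mem_Zk (α : AlgebraicCycle (pt k) ℤ) : α ∈ Cyc.Zk (pt k) (fun _ => 0) 0 :=
  fun _ h => absurd rfl h

def evalHom : ↥(ChowOps.zk (pt k) (fun _ => 0) 0) →+ ℤ :=
  { toFun := fun a => (a : AlgebraicCycle (pt k) ℤ) (thePt k)
    map_zero' := rfl
    map_add' := fun _ _ => rfl }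

lemma eval_of_rat {a} (ha : a ∈ ChowOps.ratTriv (pt k) (fun _ => 0) 0) : evalHom k a = 0 := by
  induction ha using AddSubgroup.closure_induction with
  | mem a ha =>
    obtain ⟨ι, ξ, f, h1, -, -, h4⟩ := ha
    haveI : IsEmpty ι := ⟨fun i => absurd (h1 i) (show (0 : ℤ) ≠ 0 + 1 by norm_num)⟩
    exact (h4 _).trans (finsum_of_isEmpty _)
  | zero => exact map_zero _
  | add a b _ _ ha hb => rw [map_add, ha, hb, add_zero]
  | neg a _ ha => rw [map_neg, ha, neg_zero]

def deg : ChowOps.CH (pt k) (fun _ => 0) 0 →+ ℤ :=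
  QuotientAddGroup.lift _ (evalHom k) (fun _ ha => eval_of_rat k ha)

lemma deg_cl (α : AlgebraicCycle (pt k) ℤ) (h) :
    deg k (ChowOps.cl (δ := fun _ => 0) (k := 0) α h) = α (thePt k) := rfl

lemma deg_bijective : Function.Bijective (deg k) := by
  constructor
  · intro a b hab
    obtain ⟨a, rfl⟩ := QuotientAddGroup.mk_surjective a
    obtain ⟨b, rfl⟩ := QuotientAddGroup.mk_surjective b
    refine congrArg _ (Subtype.ext (Function.locallyFinsuppWithin.ext (D₁ := a.1) (D₂ := b.1) fun x => ?_))
    rw [eq_pt k x (thePt k)]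
    exact hab
  · intro m
    exact ⟨ChowOps.cl (δ := fun _ => 0) (k := 0) (constCycle k m) (mem_Zk k _), rfl⟩

variable {k} in
lemma residueDegree_eq {F : Type u} [Field F] [Algebra k F]
    (x : pt F) : (Spec.map (CommRingCat.ofHom (algebraMap k F))).residueDegree x = Module.finrank k F := by
  let p : pt F ⟶ pt k := Spec.map (CommRingCat.ofHom (algebraMap k F))
  letI : Algebra ((pt k).residueField (p x)) ((pt F).residueField x) := (p.residueFieldMap x).hom.toAlgebra
  have hb : ∀ (E : Type u) [Field E] (z : pt E), Function.Bijective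
      ((Scheme.ΓSpecIso (CommRingCat.of E)).inv ≫ (pt E).Γevaluation z).hom := by
    intro E _ z
    have hprime : ∀ P : Ideal Γ(pt E, ⊤), P.IsPrime → P.IsMaximal := by
      intro P hP
      have : IsField Γ(pt E, ⊤) :=
        (Scheme.ΓSpecIso (CommRingCat.of E)).commRingCatIsoToRingEquiv.toMulEquiv.isField (Field.toIsField E)
      letI := this.toField
      rw [(Ideal.eq_bot_or_top P).resolve_right hP.ne_top]
      exact Ideal.bot_isMaximal
    exact ⟨RingHom.injective _, (BddFibLib.Γevaluation_surjective _ (hprime _ inferInstance)).comp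
      (ConcreteCategory.bijective_of_isIso (Scheme.ΓSpecIso (CommRingCat.of E)).inv).2⟩
  refine (Algebra.finrank_eq_of_equiv_equiv (RingEquiv.ofBijective _ (hb k (p x)))
    (RingEquiv.ofBijective _ (hb F x)) ?_).symm
  ext a
  show p.residueFieldMap x ((pt k).Γevaluation (p x) ((Scheme.ΓSpecIso _).inv a)) =
    (pt F).Γevaluation x ((Scheme.ΓSpecIso _).inv (algebraMap k F a))
  rw [Scheme.Γevaluation_naturality_apply]
  congr 1
  exact (ConcreteCategory.congr_hom (Scheme.ΓSpecIso_inv_naturality (CommRingCat.ofHom (algebraMap k F))) a).symm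

lemma map_value {F : Type u} [Field F] [Algebra k F] (α : AlgebraicCycle (pt F) ℤ) :
    AlgebraicCycle.map (Spec.map (CommRingCat.ofHom (algebraMap k F))) (fun _ => (0 : ℤ)) (fun _ => (0 : ℤ)) α
      (thePt k) = α (thePt F) * (Module.finrank k F : ℤ) := by
  unfold AlgebraicCycle.map
  rw [Function.locallyFinsupp.map_apply]
  haveI : Subsingleton (pt F) := ⟨eq_pt F⟩
  rw [show (Spec.map (CommRingCat.ofHom (algebraMap k F))).base ⁻¹' {thePt k} = {thePt F} from
    Set.ext fun z => ⟨fun _ => eq_pt F _ _, fun _ => eq_pt k _ _⟩, finsum_mem_singleton]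
  simp [AlgebraicCycle.mapCoeff, residueDegree_eq]

variable (K : Type u) [Field K] [Algebra k K]

lemma map_deg_le {d : ℤ}
    (h : ∀ F : IntermediateField k K, FiniteDimensional k F → F ≠ ⊥ → d ∣ (Module.finrank k F : ℤ)) :
    ∀ c ∈ QsChow.ptNormSubgroup k K, d ∣ deg k c := by
  intro c hc
  induction hc using AddSubgroup.closure_induction with
  | mem c hc =>
    obtain ⟨F, hF, hne, α, hα, rfl⟩ := hc
    rw [deg_cl, map_value k α]
    exact dvd_mul_of_dvd_right (h F hF hne) _
  | zero => rw [map_zero]; exact dvd_zero _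
  | add a b _ _ ha hb => rw [map_add]; exact dvd_add ha hb
  | neg a _ ha => rw [map_neg]; exact ha.neg_right

lemma finrank_mem (F : IntermediateField k K) [FiniteDimensional k F] (hne : F ≠ ⊥) :
    (Module.finrank k F : ℤ) ∈ (QsChow.ptNormSubgroup k K).map (deg k) := by
  refine ⟨ChowOps.cl (δ := fun _ => 0) (k := 0)
    (AlgebraicCycle.map (Spec.map (CommRingCat.ofHom (algebraMap k F))) (fun _ => (0 : ℤ)) (fun _ => (0 : ℤ))
      (constCycle F 1)) (mem_Zk k _), AddSubgroup.subset_closure ⟨F, inferInstance, hne, constCycle F 1, mem_Zk k _, rfl⟩, ?_⟩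
  rw [deg_cl, map_value k]
  exact one_mul _

lemma exists_degree (L : IntermediateField k K) [FiniteDimensional k L] [IsGalois k L]
    (H : Subgroup Gal(L/k)) :
    ∃ F : IntermediateField k K, FiniteDimensional k F ∧ Module.finrank k F = H.index := by
  refine ⟨IntermediateField.lift (IntermediateField.fixedField H), ?_, ?_⟩
  · exact LinearEquiv.finiteDimensional (IntermediateField.liftAlgEquiv (IntermediateField.fixedField H)).toLinearEquiv
  · rw [← (IntermediateField.liftAlgEquiv (IntermediateField.fixedField H)).toLinearEquiv.finrank_eq]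
    rw [IntermediateField.finrank_eq_fixingSubgroup_index, IntermediateField.fixingSubgroup_fixedField]

theorem eq_top_of_not_primePow (L : IntermediateField k K) [FiniteDimensional k L] [IsGalois k L]
    (hL : ∀ p n : ℕ, p.Prime → Module.finrank k L ≠ p ^ n) :
    QsChow.ptNormSubgroup k K = ⊤ := by
  obtain ⟨d, hd⟩ := Int.subgroup_cyclic ((QsChow.ptNormSubgroup k K).map (deg k))
  have hcard : Nat.card Gal(L/k) = Module.finrank k L := IsGalois.card_aut_eq_finrank k L
  have hd1 : d.natAbs = 1 := by
    by_contra h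
    obtain ⟨p, hp, hpd⟩ := Nat.exists_prime_and_dvd h
    haveI := Fact.mk hp
    obtain ⟨P⟩ : Nonempty (Sylow p Gal(L/k)) := inferInstance
    obtain ⟨F, hF, hFd⟩ := exists_degree k K L (P : Subgroup Gal(L/k))
    have hne : F ≠ ⊥ := by
      rintro rfl
      rw [IntermediateField.finrank_bot] at hFd
      obtain ⟨e, he⟩ := IsPGroup.iff_card.mp P.2
      refine hL p e hp ?_
      rw [← hcard, ← (P : Subgroup Gal(L/k)).card_mul_index, ← hFd, mul_one, he]
    have h1 := finrank_mem k K F hne
    rw [hd, AddSubgroup.mem_closure_singleton] at h1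
    obtain ⟨m, hm⟩ := h1
    refine P.not_dvd_index (p := p) ?_
    rw [← hFd, ← Int.natCast_dvd_natCast, ← hm]
    exact dvd_mul_of_dvd_right (Int.natCast_dvd.mpr hpd) m
  have htop : (QsChow.ptNormSubgroup k K).map (deg k) = ⊤ := by
    rw [hd, eq_top_iff]
    intro z _
    rw [AddSubgroup.mem_closure_singleton]
    rcases Int.natAbs_eq_iff.mp hd1 with rfl | rfl
    · exact ⟨z, by simp⟩
    · exact ⟨-z, by simp⟩
  rw [eq_top_iff]
  intro c _
  obtain ⟨c', hc', h⟩ := (htop ▸ AddSubgroup.mem_top (deg k c) : deg k c ∈ (QsChow.ptNormSubgroup k K).map (deg k))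
  rwa [← (deg_bijective k).1 h]

theorem index_eq_prime (L : IntermediateField k K) [FiniteDimensional k L] [IsGalois k L]
    (p n : ℕ) (hp : p.Prime) (hn : 1 ≤ n) (hL : Module.finrank k L = p ^ n)
    (hF : ∀ F : IntermediateField k K, FiniteDimensional k F → ∃ e : ℕ, Module.finrank k F = p ^ e) :
    (QsChow.ptNormSubgroup k K).index = p := by
  haveI := Fact.mk hp
  have hcard : Nat.card Gal(L/k) = p ^ n := (IsGalois.card_aut_eq_finrank k L).trans hL
  obtain ⟨H, hH⟩ := Sylow.exists_subgroup_card_pow_prime p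
    (show p ^ (n - 1) ∣ Nat.card Gal(L/k) by rw [hcard]; exact pow_dvd_pow p (Nat.sub_le n 1))
  obtain ⟨F, hFfin, hFd⟩ := exists_degree k K L H
  have hFp : Module.finrank k F = p := by
    have h := H.card_mul_index
    rw [hH, hcard, ← hFd] at h
    rw [show p ^ n = p ^ (n - 1) * p by rw [← pow_succ, show n - 1 + 1 = n by omega]] at h
    exact Nat.eq_of_mul_eq_mul_left (pow_pos hp.pos _) h
  have hne : F ≠ ⊥ := by rintro rfl; rw [IntermediateField.finrank_bot] at hFp; exact hp.ne_one hFp.symm
  have heq : (QsChow.ptNormSubgroup k K).map (deg k) = AddSubgroup.zmultiples (p : ℤ) := by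
    apply le_antisymm
    · rintro _ ⟨c, hc, rfl⟩
      refine Int.mem_zmultiples_iff.mpr (map_deg_le k K (fun F hF' hne' => ?_) c hc)
      obtain ⟨e, he⟩ := hF F hF'
      rcases e with _ | e
      · exact absurd (IntermediateField.finrank_eq_one_iff.mp (by simpa using he)) hne'
      · rw [he]; push_cast; exact dvd_pow_self _ (Nat.succ_ne_zero e)
    · rw [AddSubgroup.zmultiples_le, ← hFp]
      exact finrank_mem k K F hne
  rw [← AddSubgroup.index_map_of_bijective (deg_bijective k) (QsChow.ptNormSubgroup k K), heq,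
    Int.index_zmultiples, Int.natAbs_natCast]

end Groth.Agent.PtNorm
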